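import Groth.Prelude.Def_Hensel
import Groth.Agent.Hensel.QuasiFinite
import Groth.Agent.Hensel.Idempotent
import Groth.Agent.Henselization.Transfer

/-!
Henselizations of intermediate local rings, and tensor products of strictly henselian rings.
-/

set_option autoImplicit false

open IsLocalRing
open scoped TensorProduct

universe u

namespace Groth.Agent.SHTensor

theorem isSepClosed_of_isAlgebraic (k E : Type u) [Field k] [Field E] [Algebra k E] [IsSepClosed k]
    [Algebra.IsAlgebraic k E] : IsSepClosed E := by
  refine IsSepClosed.of_exists_root E fun p _ hirr hsep => ?_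
  haveI : Algebra.IsAlgebraic k (AlgebraicClosure E) :=
    Algebra.IsAlgebraic.trans k E (AlgebraicClosure E)
  haveI : IsPurelyInseparable k (AlgebraicClosure E) := inferInstance
  haveI : IsPurelyInseparable E (AlgebraicClosure E) :=
    IsPurelyInseparable.tower_top k E (AlgebraicClosure E)
  obtain ⟨x, hx⟩ := IsAlgClosed.exists_aeval_eq_zero (AlgebraicClosure E) p
    (Polynomial.degree_pos_of_irreducible hirr).ne'
  obtain ⟨e, rfl⟩ := IsPurelyInseparable.inseparable E x (hsep.of_dvd (minpoly.dvd E x hx))
  refine ⟨e, ?_⟩
  rw [Polynomial.aeval_algebraMap_apply, map_eq_zero] at hx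
  rwa [Polynomial.coe_aeval_eq_eval] at hx

/-! ### Local integral algebras over henselian rings -/

theorem isLocalHom_of_isIntegral (R D : Type u) [CommRing R] [IsLocalRing R] [CommRing D]
    [IsLocalRing D] [Algebra R D] [Algebra.IsIntegral R D] : IsLocalHom (algebraMap R D) :=
  ⟨fun a ha => by
    by_contra h
    have e : (maximalIdeal D).comap (algebraMap R D) = maximalIdeal R :=
      eq_maximalIdeal (Ideal.isMaximal_comap_of_isIntegral_of_isMaximal (R := R) _)
    have h' : a ∈ (maximalIdeal D).comap (algebraMap R D) := by rw [e]; exact h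
    exact h' ha⟩

theorem henselian_of_isIntegral (R D : Type u) [CommRing R] [HenselianLocalRing R] [CommRing D]
    [IsLocalRing D] [Algebra R D] [Algebra.IsIntegral R D] : HenselianLocalRing D := by
  haveI : HenselianRing R (maximalIdeal R) := Hensel.henselianRing_maximalIdeal_iff.2 inferInstance
  haveI := isLocalHom_of_isIntegral R D
  have h : HenselianRing D ((maximalIdeal R).map (algebraMap R D)) :=
    Hensel.of_isIntegral (I := maximalIdeal R) D
  have hle : (maximalIdeal R).map (algebraMap R D) ≤ maximalIdeal D :=
    ((local_hom_TFAE (algebraMap R D)).out 0 2 rfl rfl).mp inferInstance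
  have hrad : ((maximalIdeal R).map (algebraMap R D)).radical = (maximalIdeal D).radical := by
    refine le_antisymm (Ideal.radical_mono hle) ?_
    rw [(maximalIdeal.isMaximal D).isPrime.radical, Ideal.radical_eq_sInf]
    refine le_sInf fun P hP => ?_
    haveI := hP.2
    have hc : P.comap (algebraMap R D) = maximalIdeal R :=
      ((maximalIdeal.isMaximal R).eq_of_le (Ideal.IsPrime.ne_top inferInstance)
        (Ideal.map_le_iff_le_comap.1 hP.1)).symm
    have : P.IsMaximal :=
      Ideal.isMaximal_of_isIntegral_of_isMaximal_comap (R := R) P (hc ▸ maximalIdeal.isMaximal R)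
    exact (eq_maximalIdeal this).ge
  rw [Hensel.iff_of_radical_eq hrad] at h
  exact Hensel.henselianRing_maximalIdeal_iff.1 h

theorem isAlgebraic_residue (R D : Type u) [CommRing R] [IsLocalRing R] [CommRing D]
    [IsLocalRing D] [Algebra R D] [IsLocalHom (algebraMap R D)] [Algebra.IsIntegral R D] :
    Algebra.IsAlgebraic (ResidueField R) (ResidueField D) := by
  haveI : Algebra.IsIntegral (ResidueField R) (ResidueField D) := ⟨fun x => by
    obtain ⟨d, rfl⟩ := residue_surjective x
    obtain ⟨p, hp, hpd⟩ := Algebra.IsIntegral.isIntegral (R := R) d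
    refine ⟨p.map (residue R), hp.map _, ?_⟩
    rw [Polynomial.eval₂_map,
      show (algebraMap (ResidueField R) (ResidueField D)).comp (residue R) =
        (residue D).comp (algebraMap R D) from rfl, ← Polynomial.hom_eval₂, hpd, map_zero]⟩
  exact Algebra.IsIntegral.isAlgebraic

theorem isSepClosed_residue_of_isIntegral (R D : Type u) [CommRing R] [IsLocalRing R]
    [IsSepClosed (ResidueField R)] [CommRing D]
    [IsLocalRing D] [Algebra R D] [IsLocalHom (algebraMap R D)] [Algebra.IsIntegral R D] :
    IsSepClosed (ResidueField D) := by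
  haveI := isAlgebraic_residue R D
  exact isSepClosed_of_isAlgebraic (ResidueField R) (ResidueField D)

theorem isPurelyInseparable_residue_of_isIntegral (R D : Type u) [CommRing R] [IsLocalRing R]
    [IsSepClosed (ResidueField R)] [CommRing D]
    [IsLocalRing D] [Algebra R D] [IsLocalHom (algebraMap R D)] [Algebra.IsIntegral R D] :
    IsPurelyInseparable (ResidueField R) (ResidueField D) := by
  haveI := isAlgebraic_residue R D
  infer_instance

theorem isIntegral_localization (R T : Type u) [CommRing R] [HenselianLocalRing R] [CommRing T]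
    [Algebra R T] (Q : Ideal T) [Q.IsPrime] (hQ : Q.comap (algebraMap R T) = maximalIdeal R)
    (H : ∀ x s : T, ∃ (T' : Type u) (_ : CommRing T') (_ : Algebra R T')
      (_ : Algebra.FiniteType R T') (φ : T' →ₐ[R] T),
      x ∈ φ.range ∧ s ∈ φ.range ∧ Algebra.QuasiFiniteAt R (Q.comap φ.toRingHom)) :
    Algebra.IsIntegral R (Localization.AtPrime Q) := by
  refine ⟨fun z => ?_⟩
  obtain ⟨x, s, rfl⟩ := IsLocalization.exists_mk'_eq Q.primeCompl z
  obtain ⟨T', _, _, _, φ, ⟨x', hx'⟩, ⟨s', hs'⟩, hqf⟩ := H x s
  let Q' := Q.comap φ.toRingHom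
  haveI : Algebra.QuasiFiniteAt R Q' := hqf
  have hQ' : Q'.comap (algebraMap R T') = maximalIdeal R := by
    rw [Ideal.comap_comap]
    show Q.comap (φ.toRingHom.comp (algebraMap R T')) = _
    rw [show φ.toRingHom.comp (algebraMap R T') = algebraMap R T from φ.comp_algebraMap, hQ]
  haveI := Hensel.finite_localization Q' hQ'
  let g : Localization.AtPrime Q' →ₐ[R] Localization.AtPrime Q :=
    ⟨Localization.localRingHom Q' Q φ.toRingHom rfl, fun r => by
      show Localization.localRingHom Q' Q φ.toRingHom rfl (algebraMap R _ r) = _
      rw [IsScalarTower.algebraMap_apply R T' (Localization.AtPrime Q'),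
        Localization.localRingHom_to_map]
      show algebraMap _ _ (φ (algebraMap R T' r)) = _
      rw [φ.commutes, ← IsScalarTower.algebraMap_apply]⟩
  have hs'Q : s' ∈ Q'.primeCompl := fun h => s.2 (hs' ▸ h)
  have : IsLocalization.mk' (Localization.AtPrime Q) x s =
      g (IsLocalization.mk' _ x' (⟨s', hs'Q⟩ : Q'.primeCompl)) := by
    show _ = Localization.localRingHom Q' Q φ.toRingHom rfl _
    rw [Localization.localRingHom_mk']
    congr 1
    · exact hx'.symm
    · exact Subtype.ext hs'.symm
  rw [this]
  exact (Algebra.IsIntegral.isIntegral _).map g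

/-! ### Henselizations of intermediate rings -/

theorem isLocalHom_of_isHenselization {R S T : Type u} [CommRing R] [IsLocalRing R] [CommRing S]
    [IsLocalRing S] [Algebra R S] [IsLocalHom (algebraMap R S)] [Hensel.IsHenselization R S]
    [CommRing T] [IsLocalRing T] (g : S →+* T) (hg : IsLocalHom (g.comp (algebraMap R S))) :
    IsLocalHom g := by
  obtain ⟨e⟩ := Henselization.exists_algEquiv_of_isHenselization R S
  refine ((local_hom_TFAE g).out 0 2 rfl rfl).mpr ?_
  rw [← Henselization.map_maximalIdeal_of_equiv e, Ideal.map_map]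
  exact ((local_hom_TFAE _).out 0 2 rfl rfl).mp hg

theorem isLocalHom_of_isStrictHenselization {R S T : Type u} [CommRing R] [IsLocalRing R]
    [CommRing S] [IsLocalRing S] [Algebra R S] [IsLocalHom (algebraMap R S)]
    [Hensel.IsStrictHenselization R S]
    [CommRing T] [IsLocalRing T] (g : S →+* T) (hg : IsLocalHom (g.comp (algebraMap R S))) :
    IsLocalHom g := by
  obtain ⟨e⟩ := Henselization.exists_algEquiv_of_isStrictHenselization R S
  refine ((local_hom_TFAE g).out 0 2 rfl rfl).mpr ?_
  rw [← Henselization.map_maximalIdeal_of_equiv e, Ideal.map_map]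
  exact ((local_hom_TFAE _).out 0 2 rfl rfl).mp hg

theorem isHenselization_of_intermediate (R D S : Type u) [CommRing R] [IsLocalRing R] [CommRing D]
    [IsLocalRing D] [CommRing S] [IsLocalRing S] [Algebra R D] [Algebra D S] [Algebra R S]
    [IsScalarTower R D S] [IsLocalHom (algebraMap R D)] [IsLocalHom (algebraMap D S)]
    [IsLocalHom (algebraMap R S)] [hS : _root_.Hensel.IsHenselization R S]
    (hgen : ∀ (W : Type u) [CommRing W] [HenselianLocalRing W] (f f' : D →+* W), IsLocalHom f →
      IsLocalHom f' → f.comp (algebraMap R D) = f'.comp (algebraMap R D) → f = f') :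
    _root_.Hensel.IsHenselization D S := by
  refine { henselian := hS.henselian, universal := fun W _ _ f hf => ?_ }
  obtain ⟨g, hg, hu⟩ := hS.universal W (f.comp (algebraMap R D))
    (RingHom.isLocalHom_comp f (algebraMap R D))
  have hgl : IsLocalHom g := isLocalHom_of_isHenselization g (by
    rw [hg]; exact RingHom.isLocalHom_comp f (algebraMap R D))
  have hfg : g.comp (algebraMap D S) = f :=
    hgen W _ f (RingHom.isLocalHom_comp g (algebraMap D S)) hf
      (by rw [RingHom.comp_assoc, ← IsScalarTower.algebraMap_eq, hg])
  refine ⟨g, hfg, fun g' hg' => hu g' ?_⟩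
  show g'.comp (algebraMap R S) = _
  rw [IsScalarTower.algebraMap_eq R D S, ← RingHom.comp_assoc, hg']

theorem isStrictHenselization_of_intermediate (R D S : Type u) [CommRing R] [IsLocalRing R]
    [CommRing D] [IsLocalRing D] [CommRing S] [IsLocalRing S] [Algebra R D] [Algebra D S]
    [Algebra R S] [IsScalarTower R D S] [IsLocalHom (algebraMap R D)] [IsLocalHom (algebraMap D S)]
    [IsLocalHom (algebraMap R S)] [hS : _root_.Hensel.IsStrictHenselization R S]
    (hgen : ∀ (W : Type u) [CommRing W] [HenselianLocalRing W] (f f' : D →+* W), IsLocalHom f →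
      IsLocalHom f' → f.comp (algebraMap R D) = f'.comp (algebraMap R D) →
      (∀ d, residue W (f d) = residue W (f' d)) → f = f') :
    _root_.Hensel.IsStrictHenselization D S := by
  haveI := hS.isSepClosure
  haveI : IsScalarTower (ResidueField R) (ResidueField D) (ResidueField S) :=
    IsScalarTower.of_algebraMap_eq fun x => by
      obtain ⟨r, rfl⟩ := residue_surjective x
      show residue S (algebraMap R S r) = residue S (algebraMap D S (algebraMap R D r))
      rw [← IsScalarTower.algebraMap_apply]
  haveI : Algebra.IsSeparable (ResidueField D) (ResidueField S) :=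
    Algebra.isSeparable_tower_top_of_isSeparable (ResidueField R) (ResidueField D) (ResidueField S)
  refine ⟨hS.henselian, ⟨IsSepClosure.sep_closed (ResidueField R), inferInstance⟩,
    fun W _ _ f _ τ hτ => ?_⟩
  haveI : IsLocalHom (f.comp (algebraMap R D)) := RingHom.isLocalHom_comp f (algebraMap R D)
  obtain ⟨g, ⟨hg, hgr⟩, hu⟩ := hS.universal W (f.comp (algebraMap R D)) τ (RingHom.ext fun x => by
    obtain ⟨r, rfl⟩ := residue_surjective x
    have := RingHom.congr_fun hτ (residue D (algebraMap R D r))
    simp only [RingHom.comp_apply, ResidueField.map_residue] at this ⊢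
    rw [← this, ← IsScalarTower.algebraMap_apply])
  have hgl : IsLocalHom g := isLocalHom_of_isStrictHenselization g (by
    rw [hg]; exact RingHom.isLocalHom_comp f (algebraMap R D))
  have hfg : g.comp (algebraMap D S) = f :=
    hgen W _ f (RingHom.isLocalHom_comp g (algebraMap D S)) inferInstance
      (by rw [RingHom.comp_assoc, ← IsScalarTower.algebraMap_eq, hg])
      fun d => by
        have := RingHom.congr_fun hτ (residue D d)
        simp only [RingHom.comp_apply, ResidueField.map_residue] at this
        rw [RingHom.comp_apply, hgr, this]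
  refine ⟨g, ⟨hfg, hgr⟩, fun g' hg' => hu g' ⟨?_, hg'.2⟩⟩
  rw [IsScalarTower.algebraMap_eq R D S, ← RingHom.comp_assoc, hg'.1]

theorem isStrictHenselization_self (D : Type u) [CommRing D] [HenselianLocalRing D]
    [IsSepClosed (ResidueField D)] : _root_.Hensel.IsStrictHenselization D D where
  henselian := inferInstance
  isSepClosure := by
    have h : (ResidueField.instAlgebra : Algebra (ResidueField D) (ResidueField D)) =
        Algebra.id _ := Algebra.algebra_ext _ _ fun x => by
      obtain ⟨d, rfl⟩ := residue_surjective x
      rfl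
    rw [h]
    exact ⟨inferInstance, inferInstance⟩
  universal W _ _ f _ τ hτ := by
    refine ⟨f, ⟨RingHom.comp_id f, fun x => ?_⟩, fun g hg => (RingHom.comp_id g).symm.trans hg.1⟩
    have := RingHom.congr_fun hτ (residue D x)
    simp only [RingHom.comp_apply, ResidueField.map_residue] at this
    exact this.symm

theorem isHenselization_self (D : Type u) [CommRing D] [HenselianLocalRing D] :
    _root_.Hensel.IsHenselization D D where
  henselian := inferInstance
  universal W _ _ f _ := ⟨f, RingHom.comp_id f, fun g hg => (RingHom.comp_id g).symm.trans hg⟩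

theorem algEquiv_of_isStrictHenselization (D E S : Type u) [CommRing D] [IsLocalRing D] [CommRing E]
    [IsLocalRing E] [Algebra D E] [IsLocalHom (algebraMap D E)]
    [_root_.Hensel.IsStrictHenselization D E] [CommRing S] [IsLocalRing S] [Algebra D S]
    [IsLocalHom (algebraMap D S)] [_root_.Hensel.IsStrictHenselization D S] :
    Nonempty (E ≃ₐ[D] S) := by
  obtain ⟨e⟩ := Henselization.exists_algEquiv_of_isStrictHenselization D E
  obtain ⟨e'⟩ := Henselization.exists_algEquiv_of_isStrictHenselization D S
  exact ⟨e.symm.trans e'⟩

theorem algEquiv_of_isHenselization (D E S : Type u) [CommRing D] [IsLocalRing D] [CommRing E]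
    [IsLocalRing E] [Algebra D E] [IsLocalHom (algebraMap D E)]
    [_root_.Hensel.IsHenselization D E] [CommRing S] [IsLocalRing S] [Algebra D S]
    [IsLocalHom (algebraMap D S)] [_root_.Hensel.IsHenselization D S] :
    Nonempty (E ≃ₐ[D] S) := by
  obtain ⟨e⟩ := Henselization.exists_algEquiv_of_isHenselization D E
  obtain ⟨e'⟩ := Henselization.exists_algEquiv_of_isHenselization D S
  exact ⟨e.symm.trans e'⟩

theorem bijective_of_isStrictHenselization (D S : Type u) [CommRing D] [HenselianLocalRing D]
    [IsSepClosed (ResidueField D)] [CommRing S] [IsLocalRing S] [Algebra D S]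
    [IsLocalHom (algebraMap D S)] [_root_.Hensel.IsStrictHenselization D S] :
    Function.Bijective (algebraMap D S) := by
  haveI := isStrictHenselization_self D
  obtain ⟨e⟩ := algEquiv_of_isStrictHenselization D D S
  rw [show (algebraMap D S : D → S) = e from funext fun d => (e.commutes d).symm]
  exact e.bijective

theorem bijective_of_isHenselization (D S : Type u) [CommRing D] [HenselianLocalRing D]
    [CommRing S] [IsLocalRing S] [Algebra D S] [IsLocalHom (algebraMap D S)]
    [_root_.Hensel.IsHenselization D S] :
    Function.Bijective (algebraMap D S) := by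
  haveI := isHenselization_self D
  obtain ⟨e⟩ := algEquiv_of_isHenselization D D S
  rw [show (algebraMap D S : D → S) = e from funext fun d => (e.commutes d).symm]
  exact e.bijective

/-- A map out of a strict henselization is determined by its restriction and its residue map. -/
theorem ext_of_isStrictHenselization {R S W : Type u} [CommRing R] [IsLocalRing R] [CommRing S]
    [IsLocalRing S] [Algebra R S] [IsLocalHom (algebraMap R S)]
    [hS : _root_.Hensel.IsStrictHenselization R S] [CommRing W] [HenselianLocalRing W]
    {g g' : S →+* W} (hg : IsLocalHom g)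
    (h : g.comp (algebraMap R S) = g'.comp (algebraMap R S))
    (hr : ∀ x, residue W (g x) = residue W (g' x)) : g = g' := by
  haveI : IsLocalHom (g.comp (algebraMap R S)) := RingHom.isLocalHom_comp g (algebraMap R S)
  exact (hS.universal W (g.comp (algebraMap R S)) (ResidueField.map g) (RingHom.ext fun x => by
      obtain ⟨r, rfl⟩ := residue_surjective x
      simp only [RingHom.comp_apply, ResidueField.map_residue])).unique
    ⟨rfl, fun x => (ResidueField.map_residue g x).symm⟩
    ⟨h.symm, fun x => by rw [ResidueField.map_residue, hr]⟩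

theorem ext_of_isHenselization {R S W : Type u} [CommRing R] [IsLocalRing R] [CommRing S]
    [IsLocalRing S] [Algebra R S] [IsLocalHom (algebraMap R S)]
    [hS : _root_.Hensel.IsHenselization R S] [CommRing W] [HenselianLocalRing W]
    {g g' : S →+* W} (hg : IsLocalHom g)
    (h : g.comp (algebraMap R S) = g'.comp (algebraMap R S)) : g = g' :=
  (hS.universal W (g.comp (algebraMap R S)) (RingHom.isLocalHom_comp g (algebraMap R S))).unique
    rfl h.symm

end Groth.Agent.SHTensor
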