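import Groth.Agent.SHTensor.Product

/-!
Strict henselization of a tensor product.
-/

set_option autoImplicit false

open IsLocalRing
open scoped TensorProduct

universe u

namespace Groth.Agent.SHTensor

theorem isIntegral_includeRight (R A B : Type u) [CommRing R] [CommRing A] [Algebra R A]
    [CommRing B] [Algebra R B] [Algebra.IsIntegral R A] :
    (Algebra.TensorProduct.includeRight : B →ₐ[R] A ⊗[R] B).toRingHom.IsIntegral := fun x => by
  obtain ⟨P, hP, hPx⟩ := (inferInstance : Algebra.IsIntegral B (B ⊗[R] A)).isIntegral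
    (Algebra.TensorProduct.comm R A B x)
  refine ⟨P, hP, ?_⟩
  have h2 := congrArg (Algebra.TensorProduct.comm R B A).toAlgHom.toRingHom hPx
  rw [Polynomial.hom_eval₂, map_zero] at h2
  rw [← h2]
  refine congrArg₂ (fun f y => Polynomial.eval₂ f y P) (RingHom.ext fun b => ?_) ?_
  · simp
  · exact ((Algebra.TensorProduct.comm R A B).symm_apply_apply x).symm

theorem bijective_lift_of_isIntegral (A B C : Type u) [CommRing A] [CommRing B]
    [CommRing C] [Algebra A B] [Algebra A C]
    (pA : Ideal A) [pA.IsPrime] (pB : Ideal B) [pB.IsPrime]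
    (pC : Ideal C) [pC.IsPrime]
    (pD : Ideal (B ⊗[A] C)) [pD.IsPrime]
    (Ash : Type u) [CommRing Ash] [IsLocalRing Ash] [Algebra (Localization.AtPrime pA) Ash]
    [IsLocalHom (algebraMap (Localization.AtPrime pA) Ash)]
    [_root_.Hensel.IsStrictHenselization (Localization.AtPrime pA) Ash] [Algebra A Ash]
    (Bsh : Type u) [CommRing Bsh] [IsLocalRing Bsh] [Algebra (Localization.AtPrime pB) Bsh]
    [IsLocalHom (algebraMap (Localization.AtPrime pB) Bsh)]
    [_root_.Hensel.IsStrictHenselization (Localization.AtPrime pB) Bsh] [Algebra B Bsh]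
    [IsScalarTower B (Localization.AtPrime pB) Bsh] [Algebra A Bsh] [IsScalarTower A B Bsh]
    [Algebra Ash Bsh] [IsScalarTower A Ash Bsh] [IsLocalHom (algebraMap Ash Bsh)]
    (Csh : Type u) [CommRing Csh] [IsLocalRing Csh] [Algebra (Localization.AtPrime pC) Csh]
    [IsLocalHom (algebraMap (Localization.AtPrime pC) Csh)]
    [_root_.Hensel.IsStrictHenselization (Localization.AtPrime pC) Csh] [Algebra C Csh]
    [IsScalarTower C (Localization.AtPrime pC) Csh] [Algebra A Csh] [IsScalarTower A C Csh]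
    [Algebra Ash Csh] [IsScalarTower A Ash Csh] [IsLocalHom (algebraMap Ash Csh)]
    (Dsh : Type u) [CommRing Dsh] [IsLocalRing Dsh] [Algebra (Localization.AtPrime pD) Dsh]
    [IsLocalHom (algebraMap (Localization.AtPrime pD) Dsh)]
    [_root_.Hensel.IsStrictHenselization (Localization.AtPrime pD) Dsh] [Algebra (B ⊗[A] C) Dsh]
    [IsScalarTower (B ⊗[A] C) (Localization.AtPrime pD) Dsh]
    [Algebra Bsh Dsh] [IsLocalHom (algebraMap Bsh Dsh)] [Algebra B Dsh] [IsScalarTower B Bsh Dsh]
    [IsScalarTower B (B ⊗[A] C) Dsh]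
    [Algebra Csh Dsh] [IsLocalHom (algebraMap Csh Dsh)]
    (hC : ∀ c : C, algebraMap Csh Dsh (algebraMap C Csh c) = algebraMap (B ⊗[A] C) Dsh (1 ⊗ₜ[A] c))
    [Algebra Ash Dsh] [IsScalarTower Ash Bsh Dsh] [IsScalarTower Ash Csh Dsh]
    [Algebra.IsIntegral Ash Bsh] :
    Function.Bijective (Algebra.TensorProduct.lift (IsScalarTower.toAlgHom Ash Bsh Dsh)
      (IsScalarTower.toAlgHom Ash Csh Dsh) (fun _ _ => Commute.all _ _)) := by
  have hA : _root_.Hensel.IsStrictHenselization (Localization.AtPrime pA) Ash := inferInstance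
  have hCs : _root_.Hensel.IsStrictHenselization (Localization.AtPrime pC) Csh := inferInstance
  haveI : HenselianLocalRing Csh := hCs.henselian
  haveI : IsSepClosed (ResidueField Csh) := hCs.isSepClosure.sep_closed
  haveI : IsSepClosed (ResidueField Ash) := hA.isSepClosure.sep_closed
  haveI := isPurelyInseparable_residue_of_isIntegral Ash Bsh
  haveI hTloc : IsLocalRing (Bsh ⊗[Ash] Csh) := isLocalRing_tensor Ash Bsh Csh
  let θ := Algebra.TensorProduct.lift (IsScalarTower.toAlgHom Ash Bsh Dsh)
    (IsScalarTower.toAlgHom Ash Csh Dsh) (fun _ _ => Commute.all _ _)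
  let inr : Csh →+* Bsh ⊗[Ash] Csh :=
    (Algebra.TensorProduct.includeRight : Csh →ₐ[Ash] Bsh ⊗[Ash] Csh).toRingHom
  let inl : Bsh →+* Bsh ⊗[Ash] Csh := algebraMap Bsh (Bsh ⊗[Ash] Csh)
  have hinr : inr.IsIntegral := isIntegral_includeRight Ash Bsh Csh
  have hθr : θ.toRingHom.comp inr = algebraMap Csh Dsh := RingHom.ext fun x => by simp [θ, inr]
  have hθl : θ.toRingHom.comp inl = algebraMap Bsh Dsh := RingHom.ext fun x => by simp [θ, inl]
  haveI hθloc : IsLocalHom θ.toRingHom := by
    refine ((local_hom_TFAE θ.toRingHom).out 0 4 rfl rfl).mpr (eq_maximalIdeal ?_)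
    refine Ideal.isMaximal_of_isIntegral_of_isMaximal_comap' inr hinr _ ?_
    rw [Ideal.comap_comap, hθr, ((local_hom_TFAE (algebraMap Csh Dsh)).out 0 4 rfl rfl).mp inferInstance]
    exact maximalIdeal.isMaximal Csh
  haveI : IsLocalHom inl :=
    have : IsLocalHom (θ.toRingHom.comp inl) := by rw [hθl]; infer_instance
    isLocalHom_of_comp _ θ.toRingHom
  haveI : IsLocalHom inr :=
    have : IsLocalHom (θ.toRingHom.comp inr) := by rw [hθr]; infer_instance
    isLocalHom_of_comp _ θ.toRingHom
  -- the map from the local ring of `B ⊗[A] C`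
  let fB : B →ₐ[A] Bsh ⊗[Ash] Csh :=
    { inl.comp (algebraMap B Bsh) with
      commutes' := fun a => by
        show inl (algebraMap B Bsh (algebraMap A B a)) = _
        rw [← IsScalarTower.algebraMap_apply A B Bsh]
        rfl }
  let fC : C →ₐ[A] Bsh ⊗[Ash] Csh :=
    { inr.comp (algebraMap C Csh) with
      commutes' := fun a => by
        show inr (algebraMap C Csh (algebraMap A C a)) = inl (algebraMap A Bsh a)
        rw [← IsScalarTower.algebraMap_apply A C Csh, IsScalarTower.algebraMap_apply A Ash Csh,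
          IsScalarTower.algebraMap_apply A Ash Bsh]
        exact (Algebra.TensorProduct.includeRight : Csh →ₐ[Ash] Bsh ⊗[Ash] Csh).commutes _ }
  let f0 : B ⊗[A] C →+* Bsh ⊗[Ash] Csh :=
    (Algebra.TensorProduct.lift fB fC fun _ _ => Commute.all _ _).toRingHom
  have hf0 : θ.toRingHom.comp f0 = algebraMap (B ⊗[A] C) Dsh := RingHom.ext fun d => by
    induction d using TensorProduct.induction_on with
    | zero => simp
    | tmul b c =>
      have h1 : f0 (b ⊗ₜ[A] c) = inl (algebraMap B Bsh b) * inr (algebraMap C Csh c) := by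
        simp [f0, fB, fC]
      rw [RingHom.comp_apply, h1, map_mul, ← RingHom.comp_apply θ.toRingHom inl, hθl,
        ← RingHom.comp_apply θ.toRingHom inr, hθr, hC, ← IsScalarTower.algebraMap_apply B Bsh Dsh,
        IsScalarTower.algebraMap_apply B (B ⊗[A] C) Dsh, ← map_mul]
      simp
    | add x y hx hy => rw [map_add, map_add, hx, hy]
  have hu : ∀ d : pD.primeCompl, IsUnit (f0 d) := fun d => by
    refine IsUnit.of_map θ.toRingHom _ ?_
    rw [← RingHom.comp_apply, hf0, IsScalarTower.algebraMap_apply (B ⊗[A] C) (Localization.AtPrime pD) Dsh]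
    exact (IsLocalization.map_units (Localization.AtPrime pD) d).map _
  let ι : Localization.AtPrime pD →+* Bsh ⊗[Ash] Csh := IsLocalization.lift hu
  letI : Algebra (Localization.AtPrime pD) (Bsh ⊗[Ash] Csh) := ι.toAlgebra
  letI : Algebra (Bsh ⊗[Ash] Csh) Dsh := θ.toRingHom.toAlgebra
  have hθι : θ.toRingHom.comp ι = algebraMap (Localization.AtPrime pD) Dsh :=
    IsLocalization.ringHom_ext pD.primeCompl (by
      rw [RingHom.comp_assoc, IsLocalization.lift_comp, hf0,
        IsScalarTower.algebraMap_eq (B ⊗[A] C) (Localization.AtPrime pD) Dsh])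
  haveI : IsScalarTower (Localization.AtPrime pD) (Bsh ⊗[Ash] Csh) Dsh :=
    IsScalarTower.of_algebraMap_eq fun x => (RingHom.congr_fun hθι x).symm
  haveI : IsLocalHom (algebraMap (Bsh ⊗[Ash] Csh) Dsh) := hθloc
  haveI : IsLocalHom (algebraMap (Localization.AtPrime pD) (Bsh ⊗[Ash] Csh)) :=
    have : IsLocalHom (θ.toRingHom.comp ι) := by rw [hθι]; infer_instance
    isLocalHom_of_comp ι θ.toRingHom
  haveI : _root_.Hensel.IsStrictHenselization (Bsh ⊗[Ash] Csh) Dsh := by
    refine isStrictHenselization_of_intermediate (Localization.AtPrime pD) _ Dsh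
      fun W _ _ f f' hf hf' h hr => ?_
    have h0 : f.comp f0 = f'.comp f0 := RingHom.ext fun d => by
      have := RingHom.congr_fun h (algebraMap _ _ d)
      simp only [RingHom.comp_apply] at this ⊢
      rwa [show algebraMap (Localization.AtPrime pD) (Bsh ⊗[Ash] Csh) (algebraMap _ _ d) = f0 d from
        IsLocalization.lift_eq hu d] at this
    have hl : f.comp inl = f'.comp inl := by
      refine ext_of_isStrictHenselization (R := Localization.AtPrime pB) (RingHom.isLocalHom_comp f inl) ?_
        fun x => hr _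
      refine IsLocalization.ringHom_ext pB.primeCompl (RingHom.ext fun b => ?_)
      have := RingHom.congr_fun h0 (b ⊗ₜ[A] (1 : C))
      simp only [RingHom.comp_apply] at this ⊢
      rw [← IsScalarTower.algebraMap_apply B (Localization.AtPrime pB) Bsh]
      simpa [f0, fB, fC] using this
    have hrr : f.comp inr = f'.comp inr := by
      refine ext_of_isStrictHenselization (R := Localization.AtPrime pC) (RingHom.isLocalHom_comp f inr) ?_
        fun x => hr _
      refine IsLocalization.ringHom_ext pC.primeCompl (RingHom.ext fun c => ?_)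
      have := RingHom.congr_fun h0 ((1 : B) ⊗ₜ[A] c)
      simp only [RingHom.comp_apply] at this ⊢
      rw [← IsScalarTower.algebraMap_apply C (Localization.AtPrime pC) Csh]
      simpa [f0, fB, fC] using this
    refine RingHom.ext fun t => ?_
    induction t using TensorProduct.induction_on with
    | zero => simp
    | tmul x y =>
      rw [show x ⊗ₜ[Ash] y = inl x * inr y by simp [inl, inr], map_mul, map_mul,
        ← RingHom.comp_apply f inl, hl, ← RingHom.comp_apply f inr, hrr]
      rfl
    | add x y hx hy => rw [map_add, map_add, hx, hy]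
  letI : Algebra Csh (Bsh ⊗[Ash] Csh) := inr.toAlgebra
  haveI : Algebra.IsIntegral Csh (Bsh ⊗[Ash] Csh) := ⟨hinr⟩
  haveI := henselian_of_isIntegral Csh (Bsh ⊗[Ash] Csh)
  haveI : IsLocalHom (algebraMap Csh (Bsh ⊗[Ash] Csh)) := isLocalHom_of_isIntegral _ _
  haveI := isSepClosed_residue_of_isIntegral Csh (Bsh ⊗[Ash] Csh)
  exact bijective_of_isStrictHenselization (Bsh ⊗[Ash] Csh) Dsh

end Groth.Agent.SHTensor

namespace Groth.Agent.SHTensor

theorem isIntegral_of_strict (R S : Type u) [CommRing R] [CommRing S] [Algebra R S]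
    (p : Ideal R) [p.IsPrime] (q : Ideal S) [q.IsPrime]
    (R0 : Type u) [CommRing R0] [IsLocalRing R0] [Algebra R R0] [IsLocalization.AtPrime R0 p]
    (S0 : Type u) [CommRing S0] [IsLocalRing S0] [Algebra S S0] [IsLocalization.AtPrime S0 q]
    (Rh : Type u) [CommRing Rh] [IsLocalRing Rh] [Algebra R0 Rh] [IsLocalHom (algebraMap R0 Rh)]
    [Algebra R Rh] [IsScalarTower R R0 Rh]
    (Sh : Type u) [CommRing Sh] [IsLocalRing Sh] [Algebra S0 Sh] [IsLocalHom (algebraMap S0 Sh)]
    [Algebra S Sh] [IsScalarTower S S0 Sh] [Algebra R Sh] [IsScalarTower R S Sh]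
    [Algebra Rh Sh] [IsScalarTower R Rh Sh] [IsLocalHom (algebraMap Rh Sh)]
    [hR : _root_.Hensel.IsStrictHenselization R0 Rh] [_root_.Hensel.IsStrictHenselization S0 Sh]
    (hB : ∀ s : Finset S, ∃ B₀ : Subalgebra R S, (↑s : Set S) ⊆ ↑B₀ ∧
      Algebra.FiniteType R ↥B₀ ∧ Algebra.QuasiFinite R ↥B₀) :
    Algebra.IsIntegral Rh Sh := by
  haveI := hR.henselian
  haveI := isIntegral_localization_Q R S Rh hB (Q R S Rh Sh) (comap_Q R S Rh Sh)
  exact Algebra.IsIntegral.of_surjective
    (ψEquiv R S Rh Sh (bijective_ψ_of_isIntegral R S p q R0 S0 Rh Sh)).toAlgHom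
    (ψEquiv R S Rh Sh (bijective_ψ_of_isIntegral R S p q R0 S0 Rh Sh)).surjective

theorem isLocalization_self (R : Type u) [CommRing R] [IsLocalRing R] :
    IsLocalization.AtPrime R (maximalIdeal R) :=
  IsLocalization.at_units fun x hx => not_not.1 fun h => hx ((mem_maximalIdeal _).2 h)

end Groth.Agent.SHTensor
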