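import Groth.Agent.SHTensor.Tensor

/-!
Compatibility of the maps between henselizations with the localizations.
-/

set_option autoImplicit false

open IsLocalRing

universe u

namespace Groth.Agent.SHTensor

variable (R S : Type u) [CommRing R] [CommRing S] [Algebra R S]
  (p : Ideal R) [p.IsPrime] (q : Ideal S) [q.IsPrime] [q.LiesOver p]
  (R0 : Type u) [CommRing R0] [IsLocalRing R0] [Algebra R R0] [IsLocalization.AtPrime R0 p]
  (S0 : Type u) [CommRing S0] [IsLocalRing S0] [Algebra S S0] [IsLocalization.AtPrime S0 q]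
  (Rh : Type u) [CommRing Rh] [IsLocalRing Rh] [Algebra R0 Rh] [IsLocalHom (algebraMap R0 Rh)]
  [Algebra R Rh] [IsScalarTower R R0 Rh]
  (Sh : Type u) [CommRing Sh] [IsLocalRing Sh] [Algebra S0 Sh] [IsLocalHom (algebraMap S0 Sh)]
  [Algebra S Sh] [IsScalarTower S S0 Sh] [Algebra R Sh] [IsScalarTower R S Sh]
  [Algebra Rh Sh] [IsScalarTower R Rh Sh]

include q S0 in
theorem comap_maximalIdeal : Ideal.comap (algebraMap S Sh) (maximalIdeal Sh) = q := by
  rw [IsScalarTower.algebraMap_eq S S0 Sh, ← Ideal.comap_comap,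
    ((local_hom_TFAE (algebraMap S0 Sh)).out 0 4 rfl rfl).mp inferInstance,
    ← Ideal.under_def, IsLocalization.AtPrime.under_maximalIdeal S0 q]

include p q R0 S0 in
theorem isLocalHom_comp : IsLocalHom ((algebraMap Rh Sh).comp (algebraMap R0 Rh)) := by
  refine ((local_hom_TFAE _).out 0 2 rfl rfl).mpr ?_
  rw [← IsLocalization.AtPrime.map_eq_maximalIdeal p R0, Ideal.map_map, RingHom.comp_assoc,
    ← IsScalarTower.algebraMap_eq R R0 Rh, ← IsScalarTower.algebraMap_eq R Rh Sh,
    IsScalarTower.algebraMap_eq R S Sh, ← Ideal.map_map, Ideal.map_le_iff_le_comap,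
    Ideal.map_le_iff_le_comap, comap_maximalIdeal S q S0 Sh, Ideal.LiesOver.over (p := p) (P := q)]

include p q R0 S0 in
theorem isLocalHom_of_strict [_root_.Hensel.IsStrictHenselization R0 Rh] :
    IsLocalHom (algebraMap Rh Sh) :=
  isLocalHom_of_isStrictHenselization _ (isLocalHom_comp R S p q R0 S0 Rh Sh)

include p q R0 S0 in
theorem isLocalHom_of_henselization [_root_.Hensel.IsHenselization R0 Rh] :
    IsLocalHom (algebraMap Rh Sh) :=
  isLocalHom_of_isHenselization _ (isLocalHom_comp R S p q R0 S0 Rh Sh)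

end Groth.Agent.SHTensor
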