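import Groth.Agent.SHTensor.Basic
import Groth.Agent.EtAlgEasy.EtNbhd

/-!
The henselization of a local ring `R_p` as the colimit of étale `R`-algebras.
-/

set_option autoImplicit false

open IsLocalRing
open scoped TensorProduct

universe u

namespace Groth.Agent.SHTensor.Colim

open Groth.Agent.Henselization

variable (R : Type u) [CommRing R] (p : Ideal R) [p.IsPrime]

/-- The colimit. -/
abbrev H : Type u := Hz R p.ResidueField

theorem isUnit_algebraMap {r : R} (hr : r ∉ p) : IsUnit (algebraMap R (H R p) r) := by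
  rw [Henselization.isUnit_iff, AlgHom.commutes, Ne, Ideal.algebraMap_residueField_eq_zero]
  exact hr

noncomputable instance algebra : Algebra (Localization.AtPrime p) (H R p) :=
  (IsLocalization.lift (M := p.primeCompl) (g := algebraMap R (H R p))
    fun r => isUnit_algebraMap R p r.2).toAlgebra

instance : IsScalarTower R (Localization.AtPrime p) (H R p) :=
  IsScalarTower.of_algebraMap_eq fun r => (IsLocalization.lift_eq _ r).symm

theorem εH_algebraMap (y : Localization.AtPrime p) :
    εH R p.ResidueField (algebraMap (Localization.AtPrime p) (H R p) y) = residue _ y := by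
  refine RingHom.congr_fun (f := (εH R p.ResidueField).toRingHom.comp
    (algebraMap (Localization.AtPrime p) (H R p))) (g := residue (Localization.AtPrime p)) ?_ y
  refine IsLocalization.ringHom_ext p.primeCompl (RingHom.ext fun r => ?_)
  simp only [RingHom.comp_apply, ← IsScalarTower.algebraMap_apply R (Localization.AtPrime p) (H R p)]
  exact (εH R p.ResidueField).commutes r

instance : IsLocalHom (algebraMap (Localization.AtPrime p) (H R p)) := ⟨fun y hy => by
  rw [Henselization.isUnit_iff, εH_algebraMap] at hy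
  exact (residue_ne_zero_iff_isUnit y).1 hy⟩

theorem map_maximalIdeal_L (i : Idx R p.ResidueField) :
    p.map (algebraMap R i.L) = maximalIdeal i.L := by
  have hu : ∀ r : p.primeCompl, IsUnit (algebraMap R i.L r) := fun r => by
    rw [i.isUnit_iff, i.ε.commutes, Ne, Ideal.algebraMap_residueField_eq_zero]
    exact r.2
  letI : Algebra (Localization.AtPrime p) i.L := (IsLocalization.lift hu).toAlgebra
  haveI : IsScalarTower R (Localization.AtPrime p) i.L :=
    IsScalarTower.of_algebraMap_eq fun r => (IsLocalization.lift_eq hu r).symm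
  haveI : Algebra.FormallyUnramified (Localization.AtPrime p) i.L :=
    Algebra.FormallyUnramified.of_restrictScalars R _ _
  haveI : Algebra.EssFiniteType (Localization.AtPrime p) i.L :=
    Algebra.EssFiniteType.of_comp R _ _
  haveI : IsLocalHom (algebraMap (Localization.AtPrime p) i.L) := by
    refine ((local_hom_TFAE _).out 0 2 rfl rfl).mpr ?_
    rw [← Localization.AtPrime.map_eq_maximalIdeal, Ideal.map_map, ← IsScalarTower.algebraMap_eq,
      Ideal.map_le_iff_le_comap]
    intro r hr
    rw [Ideal.mem_comap, i.mem_maximalIdeal_iff, i.ε.commutes, Ideal.algebraMap_residueField_eq_zero]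
    exact hr
  rw [← Algebra.FormallyUnramified.map_maximalIdeal (R := Localization.AtPrime p) (S := i.L),
    ← Localization.AtPrime.map_eq_maximalIdeal, Ideal.map_map, ← IsScalarTower.algebraMap_eq]

theorem le_map_maximalIdeal :
    maximalIdeal (H R p) ≤ p.map (algebraMap R (H R p)) := fun z hz => by
  obtain ⟨i, x, rfl⟩ := exists_ι z
  rw [Henselization.mem_maximalIdeal_iff, εH_ι, ← i.mem_maximalIdeal_iff, ← map_maximalIdeal_L] at hz
  have := Ideal.mem_map_of_mem (ι i).toRingHom hz
  rwa [Ideal.map_map, show (ι i).toRingHom.comp (algebraMap R i.L) = algebraMap R (H R p) from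
    RingHom.ext (ι i).commutes] at this

instance isHenselization : _root_.Hensel.IsHenselization (Localization.AtPrime p) (H R p) where
  henselian := inferInstance
  universal T _ _ f hf := by
    haveI := hf
    obtain ⟨g, ⟨hg, -⟩, hu⟩ := existsUnique_hom (f.comp (algebraMap R (Localization.AtPrime p)))
      (ResidueField.map f) (RingHom.ext fun r => rfl)
    refine ⟨g, IsLocalization.ringHom_ext p.primeCompl ?_, fun g' hg' => hu g' ⟨?_, fun z => ?_⟩⟩
    · rw [RingHom.comp_assoc, ← IsScalarTower.algebraMap_eq, hg]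
    · rw [IsScalarTower.algebraMap_eq R (Localization.AtPrime p) (H R p), ← RingHom.comp_assoc, hg']
    obtain ⟨y, hy⟩ := residue_surjective (εH R p.ResidueField z)
    have hmem : z - algebraMap (Localization.AtPrime p) (H R p) y ∈ maximalIdeal (H R p) := by
      rw [Henselization.mem_maximalIdeal_iff, map_sub, εH_algebraMap, hy, sub_self]
    have hle : (p.map (algebraMap R (H R p))).map g' ≤ maximalIdeal T := by
      rw [IsScalarTower.algebraMap_eq R (Localization.AtPrime p) (H R p), ← Ideal.map_map,
        Localization.AtPrime.map_eq_maximalIdeal, Ideal.map_map, hg']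
      exact ((local_hom_TFAE f).out 0 2 rfl rfl).mp hf
    have h1 := hle (Ideal.mem_map_of_mem g' (le_map_maximalIdeal R p hmem))
    rw [map_sub] at h1
    rw [show residue T (g' z) = residue T (g' (algebraMap _ (H R p) y)) from Ideal.Quotient.eq.2 h1,
      ← RingHom.comp_apply g', hg', ← hy]
    rfl

variable {R p}

theorem point_unique {S : Type u} [CommRing S] [Algebra R S] (π σ : S →ₐ[R] p.ResidueField)
    (h : RingHom.ker π.toRingHom = RingHom.ker σ.toRingHom) : π = σ := by
  refine AlgHom.ext fun x => ?_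
  obtain ⟨y, hy⟩ := residue_surjective (R := Localization.AtPrime p) (π x)
  obtain ⟨a, b, rfl⟩ := IsLocalization.exists_mk'_eq p.primeCompl y
  have hb : algebraMap R p.ResidueField b ≠ 0 := by
    rw [Ne, Ideal.algebraMap_residueField_eq_zero]
    exact b.2
  have hab : π x * algebraMap R p.ResidueField b = algebraMap R p.ResidueField a := by
    rw [← hy, IsScalarTower.algebraMap_apply R (Localization.AtPrime p) p.ResidueField,
      IsScalarTower.algebraMap_apply R (Localization.AtPrime p) p.ResidueField,
      ← IsLocalization.mk'_spec (Localization.AtPrime p) a b, map_mul]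
    rfl
  have hk : x * algebraMap R S b - algebraMap R S a ∈ RingHom.ker σ.toRingHom := by
    rw [← h]
    show π (x * algebraMap R S b - algebraMap R S a) = 0
    rw [map_sub, map_mul, π.commutes, π.commutes, hab, sub_self]
  have : σ (x * algebraMap R S b - algebraMap R S a) = 0 := hk
  rw [map_sub, map_mul, σ.commutes, σ.commutes, sub_eq_zero, ← hab] at this
  exact (mul_right_cancel₀ hb this).symm

theorem ker_εH_comp {S : Type u} [CommRing S] [Algebra R S] (f : S →ₐ[R] H R p) :
    RingHom.ker ((εH R p.ResidueField).comp f).toRingHom =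
      (maximalIdeal (H R p)).comap f.toRingHom := by
  ext x
  exact (Henselization.mem_maximalIdeal_iff (f x)).symm

theorem existsUnique_algHom {S : Type u} [CommRing S] [Algebra R S] [Algebra.Etale R S]
    (π : S →ₐ[R] p.ResidueField) :
    ∃! f : S →ₐ[R] H R p, (εH R p.ResidueField).comp f = π := by
  obtain ⟨j, e, he⟩ := exists_idx S π
  refine ⟨(ι j).comp e, AlgHom.ext fun x => AlgHom.congr_fun he x, fun f hf => ?_⟩
  refine Hensel.algHom_unique (A := H R p) (I := maximalIdeal (H R p))
    (le_sInf fun M hM => (eq_maximalIdeal hM.2).ge) fun x => ?_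
  rw [Henselization.mem_maximalIdeal_iff, map_sub, sub_eq_zero]
  exact (AlgHom.congr_fun hf x).trans (AlgHom.congr_fun he x).symm

theorem exists_eq_algHom (z : H R p) : ∃ (S : Type u) (_ : CommRing S) (_ : Algebra R S)
    (_ : Algebra.Etale R S) (π : S →ₐ[R] p.ResidueField) (f : S →ₐ[R] H R p) (s : S),
    (εH R p.ResidueField).comp f = π ∧ f s = z := by
  obtain ⟨i, x, rfl⟩ := exists_ι z
  obtain ⟨a, t, rfl⟩ := IsLocalization.exists_mk'_eq i.q.primeCompl x
  let S := Localization.Away (t : i.S)
  haveI : Algebra.Etale i.S S := Algebra.Etale.of_isLocalizationAway (t : i.S)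
  haveI : Algebra.Etale R S := Algebra.Etale.comp R i.S S
  let g : S →ₐ[R] i.L := IsLocalization.liftAlgHom (M := Submonoid.powers (t : i.S))
    (f := IsScalarTower.toAlgHom R i.S i.L) (fun ⟨_, k, hk⟩ => by
      subst hk
      simpa using (IsLocalization.map_units i.L t).pow k)
  refine ⟨S, inferInstance, inferInstance, inferInstance, _, (ι i).comp g,
    IsLocalization.mk' S a (⟨(t : i.S), 1, pow_one _⟩ : Submonoid.powers (t : i.S)), rfl, ?_⟩
  show ι i (IsLocalization.lift _ (IsLocalization.mk' S a _)) = _
  refine congrArg (ι i) ?_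
  rw [IsLocalization.lift_mk'_spec]
  show algebraMap i.S i.L a = algebraMap i.S i.L t * _
  rw [mul_comm, IsLocalization.mk'_spec]

theorem exists_kill {S : Type u} [CommRing S] [Algebra R S] [Algebra.Etale R S]
    (f : S →ₐ[R] H R p) (s : S) (hs : f s = 0) :
    ∃ (S' : Type u) (_ : CommRing S') (_ : Algebra R S') (_ : Algebra.Etale R S')
      (π' : S' →ₐ[R] p.ResidueField) (φ : S →ₐ[R] S'),
      π'.comp φ = (εH R p.ResidueField).comp f ∧ φ s = 0 := by
  set π := (εH R p.ResidueField).comp f with hπ
  obtain ⟨j, e, he⟩ := exists_idx S π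
  have hf : f = (ι j).comp e :=
    (existsUnique_algHom π).unique rfl (AlgHom.ext fun x => AlgHom.congr_fun he x)
  rw [hf] at hs
  obtain ⟨k, hjk, hk⟩ := exists_lift_zero hs
  let e' : S →ₐ[R] k.L := (tr j k hjk).comp e
  have he' : k.ε.comp e' = π := by rw [← AlgHom.comp_assoc, ε_tr, he]
  let π₂ : S ⊗[R] k.S →ₐ[R] p.ResidueField :=
    Algebra.TensorProduct.lift π k.pt fun _ _ => Commute.all _ _
  haveI : Algebra.Etale R (S ⊗[R] k.S) := Algebra.Etale.comp R S (S ⊗[R] k.S)
  let P := RingHom.ker π₂.toRingHom
  haveI : P.IsPrime := RingHom.ker_isPrime _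
  let L := Localization.AtPrime P
  let inr : k.S →ₐ[R] L := (IsScalarTower.toAlgHom R (S ⊗[R] k.S) L).comp Algebra.TensorProduct.includeRight
  let inl : S →ₐ[R] L := (IsScalarTower.toAlgHom R (S ⊗[R] k.S) L).comp Algebra.TensorProduct.includeLeft
  have hunit : ∀ t : k.q.primeCompl, IsUnit (inr t) := fun t => by
    refine IsLocalization.map_units L (⟨1 ⊗ₜ (t : k.S), fun h => t.2 ?_⟩ : P.primeCompl)
    have h' : π₂ ((1 : S) ⊗ₜ (t : k.S)) = 0 := h
    simpa [π₂] using h'
  let g : k.L →ₐ[R] L := IsLocalization.liftAlgHom (M := k.q.primeCompl) (f := inr) hunit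
  let εL : L →ₐ[R] p.ResidueField :=
    IsLocalization.liftAlgHom (M := P.primeCompl) (f := π₂) fun t => isUnit_iff_ne_zero.2 t.2
  have hεg : εL.comp g = k.ε := by
    refine IsLocalization.algHom_ext k.q.primeCompl (AlgHom.ext fun x => ?_)
    show εL (IsLocalization.lift _ (algebraMap k.S k.L x)) = k.ε (algebraMap k.S k.L x)
    rw [IsLocalization.lift_eq, k.ε_algebraMap]
    show IsLocalization.lift _ (algebraMap (S ⊗[R] k.S) L ((1 : S) ⊗ₜ x)) = _
    rw [IsLocalization.lift_eq]
    simp [π₂]
  have hεl : εL.comp inl = π := AlgHom.ext fun x => by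
    show IsLocalization.lift _ (algebraMap (S ⊗[R] k.S) L (x ⊗ₜ (1 : k.S))) = _
    rw [IsLocalization.lift_eq]
    simp [π₂]
  have hker : ∀ z, εL z = 0 → z ∈ maximalIdeal L := fun z hz => by
    rw [mem_maximalIdeal, mem_nonunits_iff]
    exact fun h => (h.map εL).ne_zero hz
  have hu : inl = g.comp e' := by
    refine Hensel.algHom_unique (A := L) (I := maximalIdeal L)
      (le_sInf fun M hM => (eq_maximalIdeal hM.2).ge) fun x => hker _ ?_
    rw [map_sub, sub_eq_zero]
    show εL.comp inl x = εL.comp g (e' x)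
    rw [hεl, hεg, ← AlgHom.comp_apply, he']
  have h0 : algebraMap (S ⊗[R] k.S) L (s ⊗ₜ 1) = 0 := by
    show inl s = 0
    rw [hu]
    show g (tr j k hjk (e s)) = 0
    exact (congrArg g hk).trans (map_zero g)
  obtain ⟨⟨t, ht⟩, hts⟩ := (IsLocalization.map_eq_zero_iff P.primeCompl L _).1 h0
  have htu : IsUnit (π₂ t) := isUnit_iff_ne_zero.2 ht
  haveI : Algebra.Etale (S ⊗[R] k.S) (Localization.Away t) := Algebra.Etale.of_isLocalizationAway t
  haveI : Algebra.Etale R (Localization.Away t) := Algebra.Etale.comp R (S ⊗[R] k.S) _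
  let π' : Localization.Away t →ₐ[R] p.ResidueField :=
    IsLocalization.liftAlgHom (M := Submonoid.powers t) (f := π₂) (fun ⟨_, n, hn⟩ => by
      subst hn
      simpa using htu.pow n)
  refine ⟨Localization.Away t, inferInstance, inferInstance, inferInstance, π',
    (IsScalarTower.toAlgHom R (S ⊗[R] k.S) (Localization.Away t)).comp Algebra.TensorProduct.includeLeft, AlgHom.ext fun x => ?_, ?_⟩
  · show IsLocalization.lift _ (algebraMap (S ⊗[R] k.S) _ (x ⊗ₜ (1 : k.S))) = _
    rw [IsLocalization.lift_eq]
    simp [π₂]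
  · show algebraMap (S ⊗[R] k.S) (Localization.Away t) (s ⊗ₜ (1 : k.S)) = 0
    exact (IsLocalization.map_eq_zero_iff (Submonoid.powers t) _ _).2 ⟨⟨t, 1, pow_one t⟩, hts⟩

end Groth.Agent.SHTensor.Colim
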