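import Groth.Agent.SHTensor.Local
import Mathlib.RingTheory.TensorProduct.Finite
import Mathlib.FieldTheory.PurelyInseparable.Basic

/-!
Tensor products over strictly henselian local rings.
-/

set_option autoImplicit false

open IsLocalRing
open scoped TensorProduct

universe u

namespace Groth.Agent.SHTensor

theorem ringExpChar_eq {k K : Type u} [Field k] [Field K] (f : k →+* K) :
    ringExpChar k = ringExpChar K :=
  letI := expChar_of_injective_ringHom f.injective (ringExpChar k)
  (ringExpChar.eq K (ringExpChar k)).symm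

theorem cast_eq_zero_of_expChar {k : Type u} [CommRing k] (p : ℕ) [h : ExpChar k p] (hp : p.Prime) :
    (p : k) = 0 := by
  cases h
  · exact absurd hp Nat.not_prime_one
  · exact CharP.cast_eq_zero k p

section

variable (R A B : Type u) [CommRing R] [IsLocalRing R]
  [CommRing A] [IsLocalRing A] [Algebra R A] [IsLocalHom (algebraMap R A)]
  [CommRing B] [IsLocalRing B] [Algebra R B] [IsLocalHom (algebraMap R B)]

/-- The ideal generated by the two maximal ideals. -/
abbrev J : Ideal (A ⊗[R] B) :=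
  (maximalIdeal A).map (algebraMap A (A ⊗[R] B)) ⊔
    (maximalIdeal B).map (Algebra.TensorProduct.includeRight : B →ₐ[R] A ⊗[R] B).toRingHom

theorem inl_mem_J {a : A} (ha : a ∈ maximalIdeal A) : (a ⊗ₜ[R] (1 : B)) ∈ J R A B :=
  Ideal.mem_sup_left (Ideal.mem_map_of_mem (algebraMap A (A ⊗[R] B)) ha)

theorem inr_mem_J {b : B} (hb : b ∈ maximalIdeal B) : ((1 : A) ⊗ₜ[R] b) ∈ J R A B :=
  Ideal.mem_sup_right (Ideal.mem_map_of_mem _ hb)

variable [IsPurelyInseparable (ResidueField R) (ResidueField A)]

theorem exists_pow_sub_mem (x : A ⊗[R] B) :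
    ∃ (n : ℕ) (b : B), x ^ (ringExpChar (ResidueField B)) ^ n - (1 : A) ⊗ₜ[R] b ∈ J R A B := by
  set p := ringExpChar (ResidueField B) with hp
  have hpR : ringExpChar (ResidueField R) = p :=
    ringExpChar_eq (ResidueField.map (algebraMap R B))
  haveI : ExpChar (ResidueField R) p := hpR ▸ inferInstance
  have hpB : ExpChar (ResidueField B) p := inferInstance
  -- freshman's dream modulo `J`
  have hadd : ∀ (n : ℕ) (y z : A ⊗[R] B),
      (y + z) ^ p ^ n - (y ^ p ^ n + z ^ p ^ n) ∈ J R A B := by
    intro n y z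
    rcases expChar_is_prime_or_one (ResidueField B) p with hprime | h1
    swap
    · simp [h1]
    · obtain ⟨r, hr⟩ := exists_add_pow_prime_pow_eq hprime y z n
      rw [hr, add_sub_cancel_left]
      have hpJ : (p : A ⊗[R] B) ∈ J R A B := by
        have : (p : B) ∈ maximalIdeal B := by
          rw [← residue_eq_zero_iff, map_natCast]
          exact cast_eq_zero_of_expChar p hprime
        have h2 := inr_mem_J R A B this
        rwa [← nsmul_one, TensorProduct.tmul_smul, ← Algebra.TensorProduct.one_def,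
          nsmul_one] at h2
      exact Ideal.mul_mem_right _ _ (Ideal.mul_mem_right _ _ (Ideal.mul_mem_right _ _ hpJ))
  have hlift : ∀ (n m : ℕ) (y : A ⊗[R] B) (b : B),
      y ^ p ^ n - (1 : A) ⊗ₜ[R] b ∈ J R A B →
        y ^ p ^ (n + m) - (1 : A) ⊗ₜ[R] (b ^ p ^ m) ∈ J R A B := by
    intro n m y b h
    rw [show (1 : A) ⊗ₜ[R] (b ^ p ^ m) = ((1 : A) ⊗ₜ[R] b) ^ p ^ m by
      rw [Algebra.TensorProduct.tmul_pow, one_pow], pow_add, pow_mul]
    exact Ideal.mem_of_dvd _ (sub_dvd_pow_sub_pow _ _ (p ^ m)) h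
  induction x using TensorProduct.induction_on with
  | zero => exact ⟨0, 0, by simp⟩
  | tmul a b =>
    obtain ⟨n, ⟨r₀, hr⟩⟩ := IsPurelyInseparable.pow_mem (ResidueField R) p (residue A a)
    obtain ⟨r, rfl⟩ := residue_surjective r₀
    refine ⟨n, algebraMap R B r * b ^ p ^ n, ?_⟩
    have hmem : a ^ p ^ n - algebraMap R A r ∈ maximalIdeal A := by
      rw [← residue_eq_zero_iff, map_sub, map_pow, ← hr]
      exact sub_eq_zero.2 rfl
    rw [Algebra.TensorProduct.tmul_pow, ← Algebra.smul_def, ← TensorProduct.smul_tmul,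
      ← TensorProduct.sub_tmul, ← Algebra.algebraMap_eq_smul_one]
    have h2 := Ideal.mul_mem_right ((1 : A) ⊗ₜ[R] (b ^ p ^ n)) _ (inl_mem_J R A B hmem)
    rwa [Algebra.TensorProduct.tmul_mul_tmul, mul_one, one_mul] at h2
  | add y z hy hz =>
    obtain ⟨n, b, hb⟩ := hy
    obtain ⟨m, c, hc⟩ := hz
    refine ⟨n + m, b ^ p ^ m + c ^ p ^ n, ?_⟩
    have h1 := hlift n m y b hb
    have h2 := hlift m n z c hc
    rw [add_comm m n] at h2
    rw [TensorProduct.tmul_add]
    have := add_mem (hadd (n + m) y z) (add_mem h1 h2)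
    convert this using 1
    ring

variable [Algebra.IsIntegral R A]

theorem nontrivial_tensor : Nontrivial (A ⊗[R] B) := by
  let K := AlgebraicClosure (ResidueField B)
  letI : Algebra (ResidueField R) K :=
    ((algebraMap (ResidueField B) K).comp (ResidueField.map (algebraMap R B))).toAlgebra
  haveI : Algebra.IsAlgebraic (ResidueField R) (ResidueField A) := inferInstance
  let σ : ResidueField A →ₐ[ResidueField R] K := IsAlgClosed.lift
  letI : Algebra R K :=
    ((algebraMap (ResidueField R) K).comp (residue R)).toAlgebra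
  let fA : A →ₐ[R] K := ⟨σ.toRingHom.comp (residue A), fun r => σ.commutes (residue R r)⟩
  let fB : B →ₐ[R] K := ⟨(algebraMap (ResidueField B) K).comp (residue B), fun r => rfl⟩
  exact (Algebra.TensorProduct.lift fA fB fun _ _ => Commute.all _ _).toRingHom.domain_nontrivial

/-- Every maximal ideal contains `J`, and all primes containing `J` are equal. -/
theorem J_le_of_isMaximal (M : Ideal (A ⊗[R] B)) [M.IsMaximal] : J R A B ≤ M := by
  haveI hint : Algebra.IsIntegral B (B ⊗[R] A) := inferInstance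
  let i : B →+* A ⊗[R] B := (Algebra.TensorProduct.includeRight : B →ₐ[R] A ⊗[R] B).toRingHom
  have hi : i.IsIntegral := fun x => by
    have h := (hint.isIntegral (Algebra.TensorProduct.comm R A B x))
    obtain ⟨P, hP, hPx⟩ := h
    refine ⟨P, hP, ?_⟩
    have h2 := congrArg (Algebra.TensorProduct.comm R B A).toAlgHom.toRingHom hPx
    rw [Polynomial.hom_eval₂, map_zero] at h2
    rw [← h2]
    refine congrArg₂ (fun f y => Polynomial.eval₂ f y P) (RingHom.ext fun b => ?_) ?_
    · simp [i]
    · exact ((Algebra.TensorProduct.comm R A B).symm_apply_apply x).symm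
  have hB : M.comap i = maximalIdeal B := eq_maximalIdeal (Ideal.isMaximal_comap_of_isIntegral_of_isMaximal' _ hi M)
  have hR : (M.comap (algebraMap A (A ⊗[R] B))).comap (algebraMap R A) = maximalIdeal R := by
    rw [Ideal.comap_comap, ← IsScalarTower.algebraMap_eq R A (A ⊗[R] B),
      ← Algebra.TensorProduct.includeRight.comp_algebraMap, ← Ideal.comap_comap]
    show (M.comap i).comap _ = _
    rw [hB]
    exact ((local_hom_TFAE (algebraMap R B)).out 0 4 rfl rfl).mp inferInstance
  have hA : M.comap (algebraMap A (A ⊗[R] B)) = maximalIdeal A :=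
    eq_maximalIdeal (Ideal.isMaximal_of_isIntegral_of_isMaximal_comap (R := R) _
      (hR ▸ maximalIdeal.isMaximal R))
  exact sup_le (Ideal.map_le_iff_le_comap.2 hA.ge) (Ideal.map_le_iff_le_comap.2 hB.ge)

theorem le_of_isMaximal (M M' : Ideal (A ⊗[R] B)) [hM : M.IsMaximal] [M'.IsMaximal] : M ≤ M' := by
  intro x hx
  obtain ⟨n, b, hb⟩ := exists_pow_sub_mem R A B x
  have hpos : 0 < ringExpChar (ResidueField B) ^ n :=
    pow_pos (expChar_pos (ResidueField B) _) n
  have hbM : (1 : A) ⊗ₜ[R] b ∈ M := by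
    have := sub_mem (M.pow_mem_of_mem hx _ hpos) (J_le_of_isMaximal R A B M hb)
    simpa using this
  have hbm : b ∈ maximalIdeal B := le_maximalIdeal
    (Ideal.comap_ne_top (Algebra.TensorProduct.includeRight : B →ₐ[R] A ⊗[R] B).toRingHom hM.ne_top) hbM
  refine Ideal.IsPrime.mem_of_pow_mem inferInstance _ ((Submodule.sub_mem_iff_left M'
    (J_le_of_isMaximal R A B M' (inr_mem_J R A B hbm))).1 (J_le_of_isMaximal R A B M' hb))

theorem isLocalRing_tensor : IsLocalRing (A ⊗[R] B) := by
  haveI := nontrivial_tensor R A B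
  obtain ⟨M, hM⟩ := Ideal.exists_maximal (A ⊗[R] B)
  exact IsLocalRing.of_unique_max_ideal ⟨M, hM, fun M' hM' =>
    le_antisymm (le_of_isMaximal R A B M' M) (le_of_isMaximal R A B M M')⟩

theorem isLocalHom_includeRight [IsLocalRing (A ⊗[R] B)] :
    IsLocalHom (Algebra.TensorProduct.includeRight : B →ₐ[R] A ⊗[R] B).toRingHom :=
  ((local_hom_TFAE _).out 0 2 rfl rfl).mpr
    (le_sup_right.trans (J_le_of_isMaximal R A B (maximalIdeal _)))

end

end Groth.Agent.SHTensor
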