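import Groth.Agent.SHTensor.Basic
import Mathlib.RingTheory.TensorProduct.Maps
import Mathlib.RingTheory.QuasiFinite.Basic

/-!
The local ring of the tensor product of a (strict) henselization with an algebra.
-/

set_option autoImplicit false

open IsLocalRing
open scoped TensorProduct

universe u

namespace Groth.Agent.SHTensor

section

variable (R S : Type u) [CommRing R] [CommRing S] [Algebra R S]
  (p : Ideal R) [p.IsPrime] (q : Ideal S) [q.IsPrime]
  (R0 : Type u) [CommRing R0] [IsLocalRing R0] [Algebra R R0] [IsLocalization.AtPrime R0 p]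
  (S0 : Type u) [CommRing S0] [IsLocalRing S0] [Algebra S S0] [IsLocalization.AtPrime S0 q]
  (Rh : Type u) [CommRing Rh] [IsLocalRing Rh] [Algebra R0 Rh] [IsLocalHom (algebraMap R0 Rh)]
  [Algebra R Rh] [IsScalarTower R R0 Rh]
  (Sh : Type u) [CommRing Sh] [IsLocalRing Sh] [Algebra S0 Sh] [IsLocalHom (algebraMap S0 Sh)]
  [Algebra S Sh] [IsScalarTower S S0 Sh] [Algebra R Sh] [IsScalarTower R S Sh]
  [Algebra Rh Sh] [IsScalarTower R Rh Sh]

/-- The map `Rh ⊗[R] S → Sh`. -/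
abbrev φ : Rh ⊗[R] S →ₐ[R] Sh :=
  Algebra.TensorProduct.lift (IsScalarTower.toAlgHom R Rh Sh) (IsScalarTower.toAlgHom R S Sh)
    (fun _ _ => Commute.all _ _)

/-- The prime of `Rh ⊗[R] S` under the maximal ideal of `Sh`. -/
abbrev Q : Ideal (Rh ⊗[R] S) := Ideal.comap (φ R S Rh Sh) (maximalIdeal Sh)

theorem φ_inl (a : Rh) : φ R S Rh Sh (a ⊗ₜ 1) = algebraMap Rh Sh a := by simp [φ]

theorem φ_inr (s : S) : φ R S Rh Sh (1 ⊗ₜ s) = algebraMap S Sh s := by simp [φ]

/-- The map from the local ring of the tensor product to `Sh`. -/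
noncomputable def ψ : Localization.AtPrime (Q R S Rh Sh) →+* Sh :=
  IsLocalization.lift (M := (Q R S Rh Sh).primeCompl) (g := (φ R S Rh Sh).toRingHom) fun d => by
    by_contra h
    exact d.2 ((mem_maximalIdeal _).2 h)

theorem ψ_algebraMap (d : Rh ⊗[R] S) :
    ψ R S Rh Sh (algebraMap _ (Localization.AtPrime (Q R S Rh Sh)) d) = φ R S Rh Sh d :=
  IsLocalization.lift_eq _ d

instance : IsLocalHom (ψ R S Rh Sh) := ⟨fun z hz => by
  obtain ⟨x, s, rfl⟩ := IsLocalization.exists_mk'_eq (Q R S Rh Sh).primeCompl z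
  have hx : x ∈ (Q R S Rh Sh).primeCompl := fun hmem => by
    have h1 := congrArg (ψ R S Rh Sh) (IsLocalization.mk'_spec (Localization.AtPrime (Q R S Rh Sh)) x s)
    rw [map_mul, ψ_algebraMap, ψ_algebraMap] at h1
    have h2 : IsUnit (φ R S Rh Sh (s : Rh ⊗[R] S)) := by
      by_contra h; exact s.2 ((mem_maximalIdeal _).2 h)
    exact (mem_maximalIdeal _).1 hmem (h1 ▸ hz.mul h2)
  have h3 : IsUnit (IsLocalization.mk' (Localization.AtPrime (Q R S Rh Sh)) x s *
      algebraMap _ (Localization.AtPrime (Q R S Rh Sh)) (s : Rh ⊗[R] S)) := by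
    rw [IsLocalization.mk'_spec]
    exact IsLocalization.map_units _ ⟨x, hx⟩
  exact isUnit_of_mul_isUnit_left h3⟩

/-- The map `S0 → (Rh ⊗[R] S)_Q`. -/
noncomputable def ι : S0 →+* Localization.AtPrime (Q R S Rh Sh) :=
  IsLocalization.lift (M := q.primeCompl)
    (g := (algebraMap (Rh ⊗[R] S) (Localization.AtPrime (Q R S Rh Sh))).comp
      (Algebra.TensorProduct.includeRight : S →ₐ[R] Rh ⊗[R] S).toRingHom) fun s => by
    refine IsLocalization.map_units (M := (Q R S Rh Sh).primeCompl) (Localization.AtPrime (Q R S Rh Sh))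
      ⟨(1 : Rh) ⊗ₜ[R] (s : S), fun h => ?_⟩
    have h' : φ R S Rh Sh ((1 : Rh) ⊗ₜ[R] (s : S)) ∈ maximalIdeal Sh := h
    rw [φ_inr, IsScalarTower.algebraMap_apply S S0 Sh] at h'
    exact (mem_maximalIdeal _).1 h' ((IsLocalization.map_units S0 s).map (algebraMap S0 Sh))

theorem ι_algebraMap (s : S) : ι R S q S0 Rh Sh (algebraMap S S0 s) =
    algebraMap _ (Localization.AtPrime (Q R S Rh Sh)) ((1 : Rh) ⊗ₜ[R] s) :=
  IsLocalization.lift_eq _ s

theorem ψ_ι : (ψ R S Rh Sh).comp (ι R S q S0 Rh Sh) = algebraMap S0 Sh := by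
  refine IsLocalization.ringHom_ext q.primeCompl (RingHom.ext fun s => ?_)
  simp only [RingHom.comp_apply]
  rw [ι_algebraMap, ψ_algebraMap, φ_inr, ← IsScalarTower.algebraMap_apply]

instance isLocalHom_ι : IsLocalHom (ι R S q S0 Rh Sh) :=
  have : IsLocalHom ((ψ R S Rh Sh).comp (ι R S q S0 Rh Sh)) := by rw [ψ_ι]; infer_instance
  isLocalHom_of_comp _ (ψ R S Rh Sh)

/-- The map `Rh → (Rh ⊗[R] S)_Q`. -/
noncomputable def κ : Rh →+* Localization.AtPrime (Q R S Rh Sh) :=
  (algebraMap (Rh ⊗[R] S) (Localization.AtPrime (Q R S Rh Sh))).comp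
    Algebra.TensorProduct.includeLeftRingHom

theorem ψ_κ : (ψ R S Rh Sh).comp (κ R S Rh Sh) = algebraMap Rh Sh := RingHom.ext fun a => by
  show ψ R S Rh Sh (algebraMap _ _ (a ⊗ₜ[R] (1 : S))) = _
  rw [ψ_algebraMap, φ_inl]

instance isLocalHom_κ [IsLocalHom (algebraMap Rh Sh)] : IsLocalHom (κ R S Rh Sh) :=
  have : IsLocalHom ((ψ R S Rh Sh).comp (κ R S Rh Sh)) := by rw [ψ_κ]; infer_instance
  isLocalHom_of_comp _ (ψ R S Rh Sh)

include p in
theorem hom_ext {W : Type u} [CommRing W] {f f' : Localization.AtPrime (Q R S Rh Sh) →+* W}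
    (hι : f.comp (ι R S q S0 Rh Sh) = f'.comp (ι R S q S0 Rh Sh))
    (hκ : (f.comp (κ R S Rh Sh)).comp (algebraMap R0 Rh) = (f'.comp (κ R S Rh Sh)).comp (algebraMap R0 Rh) →
      f.comp (κ R S Rh Sh) = f'.comp (κ R S Rh Sh)) : f = f' := by
  have h1 : ∀ s, f (algebraMap _ _ ((1 : Rh) ⊗ₜ[R] s)) = f' (algebraMap _ _ ((1 : Rh) ⊗ₜ[R] s)) :=
    fun s => by
      have := RingHom.congr_fun hι (algebraMap S S0 s)
      simpa only [RingHom.comp_apply, ι_algebraMap] using this
  have h2 := RingHom.congr_fun <| hκ <| IsLocalization.ringHom_ext p.primeCompl <| RingHom.ext fun r => by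
    show f (algebraMap _ _ (algebraMap R0 Rh (algebraMap R R0 r) ⊗ₜ[R] (1 : S))) =
      f' (algebraMap _ _ (algebraMap R0 Rh (algebraMap R R0 r) ⊗ₜ[R] (1 : S)))
    rw [← IsScalarTower.algebraMap_apply, Algebra.algebraMap_eq_smul_one (A := Rh) r,
      TensorProduct.smul_tmul, h1]
  refine IsLocalization.ringHom_ext (Q R S Rh Sh).primeCompl (RingHom.ext fun d => ?_)
  simp only [RingHom.comp_apply]
  induction d using TensorProduct.induction_on with
  | zero => simp
  | tmul a s =>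
    rw [show a ⊗ₜ[R] s = (a ⊗ₜ (1 : S)) * ((1 : Rh) ⊗ₜ s) by simp, map_mul, map_mul, map_mul, h1]
    congr 1
    exact h2 a
  | add x y hx hy => simp only [map_add, hx, hy]

include p q R0 S0 in
theorem isStrictHenselization_tensor [IsLocalHom (algebraMap Rh Sh)]
    [_root_.Hensel.IsStrictHenselization R0 Rh] [_root_.Hensel.IsStrictHenselization S0 Sh] :
    @_root_.Hensel.IsStrictHenselization (Localization.AtPrime (Q R S Rh Sh)) Sh _ _ _ _
      (ψ R S Rh Sh).toAlgebra (inferInstanceAs (IsLocalHom (ψ R S Rh Sh))) := by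
  letI := (ψ R S Rh Sh).toAlgebra
  haveI : IsLocalHom (algebraMap (Localization.AtPrime (Q R S Rh Sh)) Sh) :=
    inferInstanceAs (IsLocalHom (ψ R S Rh Sh))
  letI := (ι R S q S0 Rh Sh).toAlgebra
  haveI : IsLocalHom (algebraMap S0 (Localization.AtPrime (Q R S Rh Sh))) :=
    inferInstanceAs (IsLocalHom (ι R S q S0 Rh Sh))
  haveI : IsScalarTower S0 (Localization.AtPrime (Q R S Rh Sh)) Sh :=
    IsScalarTower.of_algebraMap_eq fun x => (RingHom.congr_fun (ψ_ι R S q S0 Rh Sh) x).symm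
  refine isStrictHenselization_of_intermediate S0 _ Sh fun W _ _ f f' hf hf' h hr => ?_
  refine hom_ext R S p q R0 S0 Rh Sh h fun hκ => ?_
  exact ext_of_isStrictHenselization (RingHom.isLocalHom_comp f (κ R S Rh Sh)) hκ fun x => hr _

include p q R0 S0 in
theorem isHenselization_tensor [IsLocalHom (algebraMap Rh Sh)]
    [_root_.Hensel.IsHenselization R0 Rh] [_root_.Hensel.IsHenselization S0 Sh] :
    @_root_.Hensel.IsHenselization (Localization.AtPrime (Q R S Rh Sh)) Sh _ _ _ _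
      (ψ R S Rh Sh).toAlgebra (inferInstanceAs (IsLocalHom (ψ R S Rh Sh))) := by
  letI := (ψ R S Rh Sh).toAlgebra
  haveI : IsLocalHom (algebraMap (Localization.AtPrime (Q R S Rh Sh)) Sh) :=
    inferInstanceAs (IsLocalHom (ψ R S Rh Sh))
  letI := (ι R S q S0 Rh Sh).toAlgebra
  haveI : IsLocalHom (algebraMap S0 (Localization.AtPrime (Q R S Rh Sh))) :=
    inferInstanceAs (IsLocalHom (ι R S q S0 Rh Sh))
  haveI : IsScalarTower S0 (Localization.AtPrime (Q R S Rh Sh)) Sh :=
    IsScalarTower.of_algebraMap_eq fun x => (RingHom.congr_fun (ψ_ι R S q S0 Rh Sh) x).symm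
  refine isHenselization_of_intermediate S0 _ Sh fun W _ _ f f' hf hf' h => ?_
  refine hom_ext R S p q R0 S0 Rh Sh h fun hκ => ?_
  exact ext_of_isHenselization (RingHom.isLocalHom_comp f (κ R S Rh Sh)) hκ

theorem comap_Q [IsLocalHom (algebraMap Rh Sh)] :
    (Q R S Rh Sh).comap (algebraMap Rh (Rh ⊗[R] S)) = maximalIdeal Rh := by
  refine le_antisymm (le_maximalIdeal (Ideal.IsPrime.ne_top inferInstance)) fun a ha => ?_
  show φ R S Rh Sh (a ⊗ₜ 1) ∈ maximalIdeal Sh
  rw [φ_inl]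
  exact map_nonunit _ a ha

theorem ψ_algebraMap_Rh (a : Rh) :
    ψ R S Rh Sh (algebraMap Rh (Localization.AtPrime (Q R S Rh Sh)) a) = algebraMap Rh Sh a := by
  rw [IsScalarTower.algebraMap_apply Rh (Rh ⊗[R] S) (Localization.AtPrime (Q R S Rh Sh)),
    ψ_algebraMap]
  exact φ_inl R S Rh Sh a

/-- The bijection as a linear equivalence over `Rh`. -/
noncomputable def ψEquiv (h : Function.Bijective (ψ R S Rh Sh)) :
    Localization.AtPrime (Q R S Rh Sh) ≃ₐ[Rh] Sh :=
  AlgEquiv.ofBijective ({ ψ R S Rh Sh with commutes' := ψ_algebraMap_Rh R S Rh Sh } :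
    Localization.AtPrime (Q R S Rh Sh) →ₐ[Rh] Sh) h

include p q R0 S0 in
theorem bijective_ψ_of_isIntegral [IsLocalHom (algebraMap Rh Sh)]
    [hR : _root_.Hensel.IsStrictHenselization R0 Rh] [_root_.Hensel.IsStrictHenselization S0 Sh]
    [Algebra.IsIntegral Rh (Localization.AtPrime (Q R S Rh Sh))] :
    Function.Bijective (ψ R S Rh Sh) := by
  haveI := hR.henselian
  haveI : IsSepClosed (ResidueField Rh) := hR.isSepClosure.sep_closed
  haveI := henselian_of_isIntegral Rh (Localization.AtPrime (Q R S Rh Sh))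
  haveI := isLocalHom_of_isIntegral Rh (Localization.AtPrime (Q R S Rh Sh))
  haveI := isSepClosed_residue_of_isIntegral Rh (Localization.AtPrime (Q R S Rh Sh))
  letI := (ψ R S Rh Sh).toAlgebra
  haveI : IsLocalHom (algebraMap (Localization.AtPrime (Q R S Rh Sh)) Sh) :=
    inferInstanceAs (IsLocalHom (ψ R S Rh Sh))
  haveI := isStrictHenselization_tensor R S p q R0 S0 Rh Sh
  exact bijective_of_isStrictHenselization (Localization.AtPrime (Q R S Rh Sh)) Sh

include p q R0 S0 in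
theorem bijective_ψ_of_isIntegral_henselization [IsLocalHom (algebraMap Rh Sh)]
    [hR : _root_.Hensel.IsHenselization R0 Rh] [_root_.Hensel.IsHenselization S0 Sh]
    [Algebra.IsIntegral Rh (Localization.AtPrime (Q R S Rh Sh))] :
    Function.Bijective (ψ R S Rh Sh) := by
  haveI := hR.henselian
  haveI := henselian_of_isIntegral Rh (Localization.AtPrime (Q R S Rh Sh))
  letI := (ψ R S Rh Sh).toAlgebra
  haveI : IsLocalHom (algebraMap (Localization.AtPrime (Q R S Rh Sh)) Sh) :=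
    inferInstanceAs (IsLocalHom (ψ R S Rh Sh))
  haveI := isHenselization_tensor R S p q R0 S0 Rh Sh
  exact bijective_of_isHenselization (Localization.AtPrime (Q R S Rh Sh)) Sh

theorem finite_localization_Q [IsLocalHom (algebraMap Rh Sh)] [HenselianLocalRing Rh]
    [Algebra.FiniteType R S] [Algebra.QuasiFiniteAt R q]
    (hq : q = Ideal.comap (algebraMap S Sh) (maximalIdeal Sh)) :
    Module.Finite Rh (Localization.AtPrime (Q R S Rh Sh)) := by
  haveI : Algebra.QuasiFiniteAt Rh (Q R S Rh Sh) := .baseChange q _ (by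
    rw [hq]
    ext s
    show algebraMap S Sh s ∈ maximalIdeal Sh ↔ φ R S Rh Sh (1 ⊗ₜ s) ∈ maximalIdeal Sh
    rw [φ_inr])
  exact Hensel.finite_localization (Q R S Rh Sh) (comap_Q R S Rh Sh)

end

theorem exists_mem_range_map {R S : Type u} [CommRing R] [CommRing S] [Algebra R S]
    {Rh : Type u} [CommRing Rh] [Algebra R Rh] (x : Rh ⊗[R] S) :
    ∃ s : Finset S, ∀ B₀ : Subalgebra R S, (↑s : Set S) ⊆ ↑B₀ →
      x ∈ (Algebra.TensorProduct.map (AlgHom.id Rh Rh) B₀.val).range := by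
  classical
  induction x using TensorProduct.induction_on with
  | zero => exact ⟨∅, fun B₀ _ => zero_mem _⟩
  | tmul a b => exact ⟨{b}, fun B₀ h => ⟨a ⊗ₜ[R] ⟨b, h (by simp)⟩, rfl⟩⟩
  | add x y hx hy =>
    obtain ⟨s, hs⟩ := hx
    obtain ⟨t, ht⟩ := hy
    exact ⟨s ∪ t, fun B₀ h => add_mem (hs B₀ fun z hz => h (by simp_all))
      (ht B₀ fun z hz => h (by simp_all))⟩

theorem quasiFiniteAt_of_quasiFinite {R T : Type u} [CommRing R] [CommRing T] [Algebra R T]
    [Algebra.QuasiFinite R T] (Q : Ideal T) [Q.IsPrime] : Algebra.QuasiFiniteAt R Q :=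
  inferInstance

theorem isIntegral_localization_Q (R S : Type u) [CommRing R] [CommRing S] [Algebra R S]
    (Rh : Type u) [CommRing Rh] [HenselianLocalRing Rh] [Algebra R Rh]
    (hB : ∀ s : Finset S, ∃ B₀ : Subalgebra R S, (↑s : Set S) ⊆ ↑B₀ ∧
      Algebra.FiniteType R ↥B₀ ∧ Algebra.QuasiFinite R ↥B₀)
    (Q : Ideal (Rh ⊗[R] S)) [Q.IsPrime] (hQ : Q.comap (algebraMap Rh (Rh ⊗[R] S)) = maximalIdeal Rh) :
    Algebra.IsIntegral Rh (Localization.AtPrime Q) := by
  classical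
  refine isIntegral_localization Rh (Rh ⊗[R] S) Q hQ fun x y => ?_
  obtain ⟨s, hs⟩ := exists_mem_range_map x
  obtain ⟨t, ht⟩ := exists_mem_range_map y
  obtain ⟨B₀, hB₀, hft, hqf⟩ := hB (s ∪ t)
  exact ⟨Rh ⊗[R] ↥B₀, inferInstance, inferInstance, inferInstance,
    Algebra.TensorProduct.map (AlgHom.id Rh Rh) B₀.val,
    hs B₀ fun z hz => hB₀ (by simp_all), ht B₀ fun z hz => hB₀ (by simp_all),
    quasiFiniteAt_of_quasiFinite _⟩

end Groth.Agent.SHTensor
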